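import Cfsg.Agent.Lib.Helper26.GrpTransfer
import Cfsg.Agent.Lib.Helper20.Fitting
import Cfsg.Prelude.Def_OddOrderLocal

set_option autoImplicit false

/-! `Ω₁` of a metacyclic `p`-group, `p` odd. -/

namespace Cfsg.Agent.Lib.Helper26

open Cfsg

variable {G : Type*} [Group G] {p : ℕ}

/-- `1 + r + ... + r^(y-1)` -/
def gsum (r y : ℕ) : ℕ := ∑ i ∈ Finset.range y, r ^ i

theorem gsum_zero (r : ℕ) : gsum r 0 = 0 := by simp [gsum]

theorem gsum_succ (r y : ℕ) : gsum r (y + 1) = gsum r y + r ^ y := by simp [gsum, Finset.sum_range_succ]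

theorem gsum_succ' (r y : ℕ) : gsum r (y + 1) = gsum r y * r + 1 := by
  unfold gsum
  rw [geom_sum_succ, mul_comm]

theorem pow_eq_mul_gsum_add_one (d y : ℕ) : (d + 1) ^ y = d * gsum (d + 1) y + 1 := by
  induction y with
  | zero => simp [gsum_zero]
  | succ y ih =>
    rw [gsum_succ, pow_succ]
    nlinarith [ih]

theorem gsum_one_left (y : ℕ) : gsum 1 y = y := by simp [gsum]

theorem gsum_ne_zero (r : ℕ) {y : ℕ} (hy : y ≠ 0) : gsum r y ≠ 0 := by
  obtain ⟨z, rfl⟩ := Nat.exists_eq_succ_of_ne_zero hy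
  rw [Nat.succ_eq_add_one, gsum_succ']
  omega

/-- lifting the exponent (after helper20) -/
theorem pow_dvd_gsum_iff [hp : Fact p.Prime] (hodd : p ≠ 2) (d : ℕ) (hd : p ∣ d) (y s : ℕ) :
    p ^ s ∣ gsum (d + 1) y ↔ p ^ s ∣ y := by
  rcases Nat.eq_zero_or_pos y with rfl | hy
  · simp [gsum_zero]
  rcases Nat.eq_zero_or_pos d with rfl | hd0
  · rw [zero_add, gsum_one_left]
  have hoddp : Odd p := hp.out.odd_of_ne_two hodd
  have h1 := padicValNat.pow_sub_pow (p := p) (x := d + 1) (y := 1) hoddp (by omega) (by simpa using hd)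
    (by
      intro h
      have : p ∣ 1 := (Nat.dvd_add_right hd).1 h
      exact hp.out.one_lt.ne' (Nat.dvd_one.1 this)) (n := y) hy.ne'
  have h2 : (d + 1) ^ y - 1 ^ y = d * gsum (d + 1) y := by
    rw [pow_eq_mul_gsum_add_one, one_pow]; simp
  have h3 : d + 1 - 1 = d := by simp
  rw [h2, h3, padicValNat.mul hd0.ne' (gsum_ne_zero _ hy.ne')] at h1
  have h4 : padicValNat p (gsum (d + 1) y) = padicValNat p y := by omega
  rw [padicValNat_dvd_iff_le (gsum_ne_zero _ hy.ne'), padicValNat_dvd_iff_le hy.ne', h4]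

theorem card_torsion_le {C : Type*} [Group C] [Finite C] [IsCyclic C] [hp : Fact p.Prime] (T : Subgroup C)
    (hT : ∀ y ∈ T, y ^ p = 1) : Nat.card T ≤ p := by
  obtain ⟨g, hg⟩ := IsCyclic.exists_generator (α := T)
  rw [← orderOf_eq_card_of_forall_mem_zpowers hg]
  apply Nat.le_of_dvd hp.out.pos
  apply orderOf_dvd_of_pow_eq_one
  exact Subtype.ext (hT g g.2)

theorem mem_zpowers_of_torsion {C : Type*} [Group C] [Finite C] [IsCyclic C] [hp : Fact p.Prime] {a b : C}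
    (ha : a ^ p = 1) (ha1 : a ≠ 1) (hb : b ^ p = 1) : b ∈ Subgroup.zpowers a := by
  let _ : CommGroup C := IsCyclic.commGroup
  let T : Subgroup C := (powMonoidHom p : C →* C).ker
  have hT : ∀ y, y ∈ T ↔ y ^ p = 1 := fun y => by
    rw [MonoidHom.mem_ker, powMonoidHom_apply]
  have h1 : Nat.card T ≤ p := card_torsion_le T (fun y hy => (hT y).1 hy)
  have h2 : Subgroup.zpowers a ≤ T := by
    rw [Subgroup.zpowers_le]
    exact (hT a).2 ha
  have h3 : Nat.card (Subgroup.zpowers a) = p := by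
    rw [Nat.card_zpowers]
    exact orderOf_eq_prime ha ha1
  have h4 : Subgroup.zpowers a = T := Subgroup.eq_of_le_of_card_ge h2 (by rw [h3]; exact h1)
  rw [h4]
  exact (hT b).2 hb

theorem mul_pow_of_conj {x n : G} {r : ℕ} (h : ∀ k : ℕ, x⁻¹ * n ^ k * x = (n ^ k) ^ r) (k : ℕ) :
    (x * n) ^ k = x ^ k * n ^ gsum r k := by
  induction k with
  | zero => simp [gsum_zero]
  | succ k ih =>
    rw [pow_succ, ih, gsum_succ', pow_succ x, pow_succ n, pow_mul, ← h]
    group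

theorem claimB [Finite G] [hpp : Fact p.Prime] (hp : p ≠ 2) (hG : IsPGroup p G) (N : Subgroup G) [N.Normal]
    [IsCyclic N] {x n : G} (hx : x ^ p = 1) (hn : n ∈ N) : (x * n) ^ p = 1 ↔ n ^ p = 1 := by
  by_cases hn1 : n = 1
  · subst hn1
    simp [hx]
  obtain ⟨a, ha⟩ := IsCyclic.exists_generator (α := N)
  have hxa : x⁻¹ * a * x ∈ N := by
    have := (inferInstance : N.Normal).conj_mem a a.2 x⁻¹
    rwa [inv_inv] at this
  obtain ⟨r, hr⟩ : ∃ r : ℕ, (a : G) ^ r = x⁻¹ * a * x := by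
    have h1 := ha ⟨_, hxa⟩
    rw [← mem_powers_iff_mem_zpowers] at h1
    obtain ⟨r, hr⟩ := h1
    exact ⟨r, by simpa using congrArg Subtype.val hr⟩
  have hconj : ∀ y ∈ N, x⁻¹ * y * x = y ^ r := by
    intro y hy
    have h1 := ha ⟨y, hy⟩
    rw [← mem_powers_iff_mem_zpowers] at h1
    obtain ⟨t, ht⟩ := h1
    have ht' : (a : G) ^ t = y := by simpa using congrArg Subtype.val ht
    rw [← ht', ← pow_mul, mul_comm t r, pow_mul, hr]
    have : x⁻¹ * (a : G) ^ t * x = (x⁻¹ * a * x⁻¹⁻¹) ^ t := by rw [conj_pow, inv_inv]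
    rw [this, inv_inv]
  have hform := mul_pow_of_conj (x := x) (n := n) (r := r) (fun k => hconj _ (N.pow_mem hn k)) p
  rw [hform, hx, one_mul]
  -- `r ≡ 1 mod p`
  have hiter : ∀ k : ℕ, (x ^ k)⁻¹ * n * x ^ k = n ^ r ^ k := by
    intro k
    induction k with
    | zero => simp
    | succ k ih =>
      have : (x ^ (k + 1))⁻¹ * n * x ^ (k + 1) = x⁻¹ * ((x ^ k)⁻¹ * n * x ^ k) * x := by
        rw [pow_succ]; group
      rw [this, ih, hconj _ (N.pow_mem hn _), ← pow_mul, pow_succ]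
  have h1 : n ^ r ^ p = n := by
    rw [← hiter p, hx]; simp
  have hr0 : 0 < r ^ p := by
    rcases Nat.eq_zero_or_pos (r ^ p) with h | h
    · rw [h, pow_zero] at h1
      exact absurd h1.symm hn1
    · exact h
  have h2 : n ^ (r ^ p - 1) = 1 := by
    have : n ^ (r ^ p - 1) * n = 1 * n := by
      rw [← pow_succ, Nat.sub_add_cancel hr0, h1, one_mul]
    exact mul_right_cancel this
  have h3 : p ∣ orderOf n := by
    obtain ⟨k, hk⟩ := hG n
    obtain ⟨j, -, hj⟩ := (Nat.dvd_prime_pow hpp.out).1 (orderOf_dvd_of_pow_eq_one hk)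
    rcases Nat.eq_zero_or_pos j with rfl | hj0
    · rw [pow_zero, orderOf_eq_one_iff] at hj
      exact absurd hj hn1
    · rw [hj]
      exact dvd_pow_self p hj0.ne'
  have h4 : p ∣ r ^ p - 1 := h3.trans (orderOf_dvd_of_pow_eq_one h2)
  have hr1 : 1 ≤ r := by
    rcases Nat.eq_zero_or_pos r with rfl | h
    · rw [zero_pow hpp.out.ne_zero] at hr0
      exact absurd hr0 (lt_irrefl 0)
    · exact h
  have h5 : p ∣ r - 1 := by
    rw [← ZMod.natCast_eq_zero_iff] at h4 ⊢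
    rw [Nat.cast_sub hr0] at h4
    rw [Nat.cast_sub hr1]
    push_cast at h4 ⊢
    rwa [ZMod.pow_card] at h4
  obtain ⟨d, rfl⟩ : ∃ d, r = d + 1 := ⟨r - 1, by omega⟩
  have hd : p ∣ d := by simpa using h5
  have h6 : p ∣ gsum (d + 1) p := by
    have := (pow_dvd_gsum_iff hp d hd p 1).2 (by simp)
    simpa using this
  have h7 : ¬ p ^ 2 ∣ gsum (d + 1) p := by
    rw [pow_dvd_gsum_iff hp d hd p 2]
    intro h
    have h8 := Nat.le_of_dvd hpp.out.pos h
    have h9 := hpp.out.two_le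
    nlinarith
  obtain ⟨u, hu⟩ := h6
  have hu' : ¬ p ∣ u := by
    rintro ⟨w, rfl⟩
    exact h7 ⟨w, by rw [hu]; ring⟩
  rw [hu, pow_mul]
  constructor
  · intro h
    obtain ⟨k, hk⟩ := hG (n ^ p)
    exact eq_one_of_pow_coprime (Nat.Coprime.pow_right k
      ((Nat.Prime.coprime_iff_not_dvd hpp.out).2 hu').symm) h hk
  · intro h
    rw [h, one_pow]

theorem metacyclic_omega [Finite G] [hpp : Fact p.Prime] (hp : p ≠ 2) (hG : IsPGroup p G)
    (hm : IsMetacyclic G) :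
    ∃ V Z : Subgroup G, (∀ x, x ∈ V ↔ x ^ p = 1) ∧ Nat.card V ≤ p ^ 2 ∧ Nat.card Z ≤ p ∧ Z ≤ V ∧
      (∀ z ∈ Z, ∀ g, g * z = z * g) ∧ (∀ v ∈ V, ∀ g, v⁻¹ * (g * v * g⁻¹) ∈ Z) ∧
      (∀ a ∈ V, ∀ b ∈ V, a * b = b * a) := by
  obtain ⟨N, hN, hNc, hQc⟩ := hm
  have hpow : ∀ (a : G) (k : ℕ), a ^ p = 1 → (a ^ k) ^ p = 1 := by
    intro a k ha
    rw [← pow_mul, mul_comm, pow_mul, ha, one_pow]
  have hcj : ∀ (a g : G), a ^ p = 1 → (g * a * g⁻¹) ^ p = 1 := by
    intro a g ha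
    rw [conj_pow, ha]; group
  have hD : ∀ a b : G, a ^ p = 1 → a ∉ N → b ^ p = 1 →
      ∃ (k : ℕ) (n : G), n ∈ N ∧ n ^ p = 1 ∧ b = a ^ k * n := by
    intro a b ha haN hb
    have h1 : (QuotientGroup.mk' N b) ∈ Subgroup.zpowers (QuotientGroup.mk' N a) := by
      apply mem_zpowers_of_torsion (p := p)
      · rw [← map_pow, ha, map_one]
      · intro h
        exact haN ((QuotientGroup.eq_one_iff a).1 h)
      · rw [← map_pow, hb, map_one]
    rw [← mem_powers_iff_mem_zpowers] at h1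
    obtain ⟨k, hk⟩ := h1
    have hn : (a ^ k)⁻¹ * b ∈ N := by
      rw [← QuotientGroup.eq_one_iff]
      have : ((((a ^ k)⁻¹ * b : G)) : G ⧸ N) = (QuotientGroup.mk' N a ^ k)⁻¹ * QuotientGroup.mk' N b := rfl
      rw [this]
      simp only at hk
      rw [hk, inv_mul_cancel]
    refine ⟨k, (a ^ k)⁻¹ * b, hn, ?_, by group⟩
    exact (claimB hp hG N (x := a ^ k) (hpow a k ha) hn).1 (by rw [mul_inv_cancel_left]; exact hb)
  have hmul : ∀ a b : G, a ^ p = 1 → b ^ p = 1 → (a * b) ^ p = 1 := by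
    intro a b ha hb
    by_cases haN : a ∈ N
    · have h1 : b⁻¹ * a * b ∈ N := by simpa using hN.conj_mem a haN b⁻¹
      have h2 : a * b = b * (b⁻¹ * a * b) := by group
      rw [h2, claimB hp hG N hb h1]
      have := hcj a b⁻¹ ha
      rwa [inv_inv] at this
    · obtain ⟨k, n, hn, hnp, rfl⟩ := hD a b ha haN hb
      rw [← mul_assoc, ← pow_succ', claimB hp hG N (hpow a _ ha) hn]
      exact hnp
  let V : Subgroup G :=
    { carrier := {x | x ^ p = 1}
      one_mem' := one_pow p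
      mul_mem' := fun {a b} ha hb => hmul a b ha hb
      inv_mem' := fun {a} ha => by
        show (a⁻¹) ^ p = 1
        rw [inv_pow, ha, inv_one] }
  have hV : ∀ x, x ∈ V ↔ x ^ p = 1 := fun x => Iff.rfl
  have hZcard : Nat.card (V ⊓ N : Subgroup G) ≤ p := by
    rw [← Nat.card_congr (Subgroup.subgroupOfEquivOfLe (inf_le_right : V ⊓ N ≤ N)).toEquiv]
    apply card_torsion_le
    intro y hy
    exact Subtype.ext (Subgroup.mem_subgroupOf.1 hy).1
  have hZc : ∀ z ∈ V ⊓ N, ∀ g, g * z = z * g := by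
    by_cases hZ : V ⊓ N = ⊥
    · intro z hz g
      rw [hZ, Subgroup.mem_bot] at hz
      rw [hz, mul_one, one_mul]
    · have : (V ⊓ N).Normal := ⟨fun n hn g => ⟨hcj n g hn.1, hN.conj_mem n hn.2 g⟩⟩
      have : Group.IsNilpotent G := hG.isNilpotent
      obtain ⟨c, hcZ, hcc, hc1⟩ := Cfsg.Agent.Lib.Helper20.normal_inf_center_ne_bot (V ⊓ N) hZ
      have h3 : Nat.card (Subgroup.zpowers c) = p := by
        rw [Nat.card_zpowers]
        exact orderOf_eq_prime hcZ.1 hc1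
      have h4 : Subgroup.zpowers c = V ⊓ N :=
        Subgroup.eq_of_le_of_card_ge (Subgroup.zpowers_le.2 hcZ) (by rw [h3]; exact hZcard)
      intro z hz g
      rw [← h4] at hz
      obtain ⟨k, rfl⟩ := Subgroup.mem_zpowers_iff.1 hz
      have h5 : Commute g c := Subgroup.mem_center_iff.1 hcc g
      exact (h5.zpow_right k).eq
  refine ⟨V, V ⊓ N, hV, ?_, hZcard, inf_le_left, hZc, ?_, ?_⟩
  · let f : V →* G ⧸ N := (QuotientGroup.mk' N).comp V.subtype
    have h1 : Nat.card f.range ≤ p := by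
      apply card_torsion_le
      rintro _ ⟨x, rfl⟩
      rw [← map_pow]
      have : x ^ p = 1 := Subtype.ext x.2
      rw [this, map_one]
    have h2 : Nat.card f.ker ≤ p := by
      refine le_trans ?_ hZcard
      refine Nat.card_le_card_of_injective
        (fun x : f.ker => (⟨(x : V), (x : V).2, (QuotientGroup.eq_one_iff _).1 x.2⟩ : (V ⊓ N : Subgroup G))) ?_
      intro x y hxy
      apply Subtype.ext
      apply Subtype.ext
      exact congrArg (fun z : (V ⊓ N : Subgroup G) => (z : G)) hxy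
    rw [← Subgroup.card_mul_index f.ker, Subgroup.index_ker, pow_two]
    exact Nat.mul_le_mul h2 h1
  · intro v hv g
    refine ⟨hmul _ _ (V.inv_mem hv) (hcj v g hv), ?_⟩
    show v⁻¹ * (g * v * g⁻¹) ∈ N
    rw [← QuotientGroup.eq_one_iff]
    have hc : ∀ a b : G ⧸ N, a * b = b * a := fun a b => (IsCyclic.commGroup (α := G ⧸ N)).mul_comm a b
    have : (((v⁻¹ * (g * v * g⁻¹) : G)) : G ⧸ N) =
        (v : G ⧸ N)⁻¹ * ((g : G ⧸ N) * (v : G ⧸ N) * (g : G ⧸ N)⁻¹) := rfl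
    rw [this, hc (g : G ⧸ N) v, mul_inv_cancel_right, inv_mul_cancel]
  · intro a ha b hb
    by_cases haN : a ∈ N
    · exact (hZc a ⟨ha, haN⟩ b).symm
    · obtain ⟨k, n, hn, hnp, rfl⟩ := hD a b ha haN hb
      have h1 := hZc n ⟨hnp, hn⟩ a
      rw [← mul_assoc, ← pow_succ', pow_succ, mul_assoc, h1, mul_assoc]

end Cfsg.Agent.Lib.Helper26
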