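import Cfsg.Agent.Lib.Helper26.GrpRes
import Cfsg.Agent.Lib.Helper26.GrpSylow

set_option autoImplicit false

/-! Transfer into `S / foc`: a proper focal-type subgroup gives a proper normal subgroup containing all `p'`-elements. -/

namespace Cfsg.Agent.Lib.Helper26

open Cfsg

variable {G : Type*} [Group G] {p : ℕ}

theorem transfer_eq_pow_inv {A : Type*} [CommGroup A] {H : Subgroup G}
    [H.FiniteIndex] (ϕ : H →* A) (n : G) (a : A)
    (key : ∀ (k : ℕ) (g : G) (h : g⁻¹ * n ^ k * g ∈ H), ϕ ⟨g⁻¹ * n ^ k * g, h⟩ = a ^ k) :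
    MonoidHom.transfer ϕ n = a ^ H.index := by
  classical
  let _ := H.fintypeQuotientOfFiniteIndex
  rw [MonoidHom.transfer_eq_prod_quotient_orbitRel_zpowers_quot, Subgroup.index_eq_sum_minimalPeriod H n,
    ← Finset.prod_pow_eq_pow_sum]
  exact Finset.prod_congr rfl (fun q _ => key _ _ _)

theorem eq_one_of_pow_coprime {A : Type*} [Group A] {a : A} {m n : ℕ} (h : Nat.Coprime m n) (h1 : a ^ m = 1)
    (h2 : a ^ n = 1) : a = 1 := by
  rw [← orderOf_eq_one_iff]
  exact Nat.dvd_one.1 (h ▸ Nat.dvd_gcd (orderOf_dvd_of_pow_eq_one h1) (orderOf_dvd_of_pow_eq_one h2))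

theorem exists_normal_of_focal [Finite G] [Fact p.Prime] (S : Sylow p G) (T₀ : Subgroup G)
    (h0 : T₀ < (S : Subgroup G))
    (hfoc : ∀ x ∈ (S : Subgroup G), ∀ g : G, g⁻¹ * x * g ∈ (S : Subgroup G) → x⁻¹ * (g⁻¹ * x * g) ∈ T₀) :
    ∃ M : Subgroup G, M.Normal ∧ M ≠ ⊤ ∧ ∀ x : G, (orderOf x).Coprime p → x ∈ M := by
  set N : Subgroup (S : Subgroup G) := T₀.subgroupOf (S : Subgroup G) with hN
  have hNn : N.Normal := by
    constructor
    intro n hn s
    rw [hN, Subgroup.mem_subgroupOf] at hn ⊢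
    have h1 := hfoc n n.2 (s⁻¹ : (S : Subgroup G)) (by
      have := ((s * n * s⁻¹ : (S : Subgroup G))).2
      simpa using this)
    have e : ((s * n * s⁻¹ : (S : Subgroup G)) : G) =
        (n : G) * ((n : G)⁻¹ * ((((s⁻¹ : (S : Subgroup G)) : G))⁻¹ * (n : G) * ((s⁻¹ : (S : Subgroup G)) : G))) := by
      simp
    rw [e]
    exact T₀.mul_mem hn h1
  letI : CommGroup ((S : Subgroup G) ⧸ N) :=
    { (inferInstance : Group ((S : Subgroup G) ⧸ N)) with
      mul_comm := by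
        intro a b
        induction a using QuotientGroup.induction_on with
        | H a =>
        induction b using QuotientGroup.induction_on with
        | H b =>
        rw [← QuotientGroup.mk_mul, ← QuotientGroup.mk_mul, QuotientGroup.eq, hN, Subgroup.mem_subgroupOf]
        have h1 := hfoc b b.2 a (by
          have := ((a⁻¹ * b * a : (S : Subgroup G))).2
          simpa using this)
        have e : (((a * b)⁻¹ * (b * a) : (S : Subgroup G)) : G) = (b : G)⁻¹ * ((a : G)⁻¹ * (b : G) * (a : G)) := by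
          simp [mul_assoc]
        rw [e]
        exact h1 }
  have hA : IsPGroup p ((S : Subgroup G) ⧸ N) := S.2.to_quotient N
  set ϕ : (S : Subgroup G) →* ((S : Subgroup G) ⧸ N) := QuotientGroup.mk' N with hϕ
  set V : G →* ((S : Subgroup G) ⧸ N) := MonoidHom.transfer ϕ with hV
  refine ⟨V.ker, inferInstance, ?_, ?_⟩
  · intro htop
    obtain ⟨x, hxS, hxT⟩ := SetLike.exists_of_lt h0
    have h1 : V x = 1 := by
      rw [← MonoidHom.mem_ker, htop]
      trivial
    have h2 : V x = (ϕ ⟨x, hxS⟩) ^ (S : Subgroup G).index := by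
      apply transfer_eq_pow_inv
      intro k g h
      rw [← map_pow]
      symm
      rw [hϕ, QuotientGroup.mk'_apply, QuotientGroup.mk'_apply, QuotientGroup.eq, hN, Subgroup.mem_subgroupOf]
      exact hfoc (x ^ k) (Subgroup.pow_mem _ hxS k) g h
    obtain ⟨k, hk⟩ := hA (ϕ ⟨x, hxS⟩)
    have hcop : Nat.Coprime (S : Subgroup G).index (p ^ k) :=
      Nat.Coprime.pow_right k ((Nat.Coprime.symm ((Nat.Prime.coprime_iff_not_dvd Fact.out).2 S.not_dvd_index)))
    have h3 : ϕ ⟨x, hxS⟩ = 1 := eq_one_of_pow_coprime hcop (h2 ▸ h1) hk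
    rw [hϕ, QuotientGroup.mk'_apply, QuotientGroup.eq_one_iff, hN, Subgroup.mem_subgroupOf] at h3
    exact hxT h3
  · intro x hx
    rw [MonoidHom.mem_ker]
    obtain ⟨k, hk⟩ := hA (V x)
    refine eq_one_of_pow_coprime (Nat.Coprime.pow_right k hx) ?_ hk
    rw [← map_pow, pow_orderOf_eq_one, map_one]

theorem exists_normal_of_focal_rel [Fact p.Prime] {H T T₀ : Subgroup G} [Finite H] (hT : IsSylowIn p T H)
    (h0 : T₀ < T)
    (hfoc : ∀ x ∈ T, ∀ g ∈ H, g⁻¹ * x * g ∈ T → x⁻¹ * (g⁻¹ * x * g) ∈ T₀) :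
    ∃ M ≤ H, H ≤ Subgroup.normalizer (M : Set G) ∧ M ≠ H ∧ ∀ x ∈ H, (orderOf x).Coprime p → x ∈ M := by
  obtain ⟨hTH, R, hR⟩ := hT
  have h1 : T₀.subgroupOf H < (R : Subgroup H) := by
    rw [hR]
    obtain ⟨x, hxT, hxT₀⟩ := SetLike.exists_of_lt h0
    refine lt_of_le_of_ne (Subgroup.subgroupOf_mono H h0.le) ?_
    intro he
    apply hxT₀
    have : (⟨x, hTH hxT⟩ : H) ∈ T₀.subgroupOf H := by
      rw [he]; exact hxT
    exact this
  obtain ⟨M, hMn, hMne, hM⟩ := exists_normal_of_focal R (T₀.subgroupOf H) h1 (by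
    intro x hx g hg
    rw [hR, Subgroup.mem_subgroupOf] at hx hg
    rw [Subgroup.mem_subgroupOf]
    exact hfoc x hx g g.2 hg)
  refine ⟨M.map H.subtype, Subgroup.map_subtype_le M, ?_, ?_, ?_⟩
  · intro h hh
    rw [Subgroup.mem_normalizer_iff]
    intro y
    constructor
    · rintro ⟨m, hm, rfl⟩
      exact ⟨⟨h, hh⟩ * m * ⟨h, hh⟩⁻¹, hMn.conj_mem m hm _, rfl⟩
    · rintro ⟨m, hm, hmy⟩
      refine ⟨⟨h, hh⟩⁻¹ * m * ⟨h, hh⟩, ?_, ?_⟩
      · have := hMn.conj_mem m hm (⟨h, hh⟩⁻¹)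
        simpa using this
      · simp only [Subgroup.subtype_apply, Subgroup.coe_mul, Subgroup.coe_inv] at hmy ⊢
        rw [hmy]
        group
  · intro he
    apply hMne
    rw [eq_top_iff]
    intro x _
    have : (x : G) ∈ M.map H.subtype := by rw [he]; exact x.2
    obtain ⟨m, hm, hmx⟩ := this
    have : m = x := Subtype.ext hmx
    rwa [← this]
  · intro x hx hc
    exact ⟨⟨x, hx⟩, hM _ (by rwa [← Subgroup.orderOf_coe]), rfl⟩

end Cfsg.Agent.Lib.Helper26
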