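import Cfsg.Agent.Lib.Helper26.FusRad

set_option autoImplicit false

/-! The fusion system over `P` given by a group `A` of automorphisms of `P` containing `Inn P`. -/

namespace Cfsg.Agent.Lib.Helper26

open Cfsg Cfsg.FusionSystem
open scoped commutatorElement

variable {Ω : Type*} [Group Ω] {S T : Subgroup Ω}
variable {P Q R N K U V W : Subgroup Ω} {f g : Ω → Ω} {F : FusionSystem S} {p : ℕ}

theorem aev_injOn (α : MulAut P) : Set.InjOn (aev α) (P : Set Ω) := by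
  intro x hx y hy h
  have := congrArg (aev α⁻¹) h
  rwa [aev_inv_apply α hx, aev_inv_apply α hy] at this

theorem exists_autSys (P : Subgroup Ω) (A : Subgroup (MulAut P)) (hA : Inn P ≤ A) :
    ∃ E : FusionSystem P, ∀ R f, Map E R f ↔ R ≤ P ∧ ∃ α ∈ A, ∀ x ∈ R, f x = aev α x := by
  refine exists_sys P (fun R f => R ≤ P ∧ ∃ α ∈ A, ∀ x ∈ R, f x = aev α x) ?_ ?_ ?_ ?_ ?_ ?_ ?_ ?_
  · rintro R f g ⟨h1, α, hα, h2⟩ hfg
    exact ⟨h1, α, hα, fun x hx => (hfg x hx).symm.trans (h2 x hx)⟩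
  · rintro R f ⟨h1, α, hα, h2⟩ x hx y hy
    rw [h2 _ (R.mul_mem hx hy), h2 x hx, h2 y hy, aev_map_mul α (h1 hx) (h1 hy)]
  · rintro R f ⟨h1, -⟩
    exact h1
  · rintro R f ⟨h1, α, hα, h2⟩ x hx
    rw [h2 x hx]
    exact aev_mem_self α (h1 hx)
  · rintro R f ⟨h1, α, hα, h2⟩ x hx y hy h
    rw [h2 x hx, h2 y hy] at h
    exact aev_injOn α (h1 hx) (h1 hy) h
  · intro R a hR ha
    obtain ⟨α, hα⟩ := exists_aut_of_normalizer (Subgroup.le_normalizer ha)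
    exact ⟨hR, α, hA (mem_Inn_iff.2 ⟨a, ha, hα⟩), fun x hx => (hα x (hR hx)).symm⟩
  · rintro R R' f g ⟨h1, α, hα, h2⟩ ⟨h1', α', hα', h2'⟩ h
    refine ⟨h1, α' * α, A.mul_mem hα' hα, fun x hx => ?_⟩
    rw [aev_mul _ _ (h1 hx), ← h2 x hx, ← h2' _ (h x hx)]
    rfl
  · rintro R f ⟨h1, α, hα, h2⟩
    have hmul : ∀ x ∈ R, ∀ y ∈ R, f (x * y) = f x * f y := by
      intro x hx y hy
      rw [h2 _ (R.mul_mem hx hy), h2 x hx, h2 y hy, aev_map_mul α (h1 hx) (h1 hy)]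
    have hinj : Set.InjOn f (R : Set Ω) := by
      intro x hx y hy h
      rw [h2 x hx, h2 y hy] at h
      exact aev_injOn α (h1 hx) (h1 hy) h
    refine ⟨?_, α⁻¹, A.inv_mem hα, ?_⟩
    · rw [im_le_iff]
      intro x hx
      rw [h2 x hx]
      exact aev_mem_self α (h1 hx)
    · intro y hy
      obtain ⟨x, hx, rfl⟩ := (mem_im' hmul).1 hy
      rw [inv_apply' hinj hx, h2 x hx, aev_inv_apply α (h1 hx)]

theorem autSys_autGroup {A : Subgroup (MulAut P)} {E : FusionSystem P}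
    (hE : ∀ R f, Map E R f ↔ R ≤ P ∧ ∃ α ∈ A, ∀ x ∈ R, f x = aev α x) : E.autGroup P = A := by
  ext β
  rw [mem_autGroup_iff le_rfl, hE]
  constructor
  · rintro ⟨-, α, hα, h⟩
    rwa [aut_ext h]
  · intro h
    exact ⟨le_rfl, β, h, fun _ _ => rfl⟩

theorem autSys_isSaturated [Finite P] [Fact p.Prime] (hP : IsPGroup p P) {A : Subgroup (MulAut P)}
    {E : FusionSystem P} (hE : ∀ R f, Map E R f ↔ R ≤ P ∧ ∃ α ∈ A, ∀ x ∈ R, f x = aev α x)
    (hsyl : IsSylowIn p (Inn P) A) : E.IsSaturated p := by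
  rw [isSaturated_iff' hP]
  constructor
  · rw [isFullyAutomized_iff, autSys_autGroup hE, ← Inn_eq_autInducedBy]
    exact ⟨le_rfl, hsyl⟩
  · intro Q hQ
    rw [isReceptive_iff]
    refine ⟨hQ.1, fun R f hf _ => ?_⟩
    obtain ⟨h1, α, hα, h2⟩ := (hE _ _).1 hf
    exact ⟨aev α, (hE _ _).2 ⟨Nf_le_S, α, hα, fun _ _ => rfl⟩, fun x hx => (h2 x hx).symm⟩

theorem isSylowIn_Inn_sup [Finite P] [Fact p.Prime] (hP : IsPGroup p P) {β : MulAut P} {q : ℕ}
    (hq : q.Prime) (hqp : q ≠ p) (hβ : orderOf β = q) : IsSylowIn p (Inn P) (Inn P ⊔ Subgroup.zpowers β) := by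
  have hInn : IsPGroup p (Inn P) := by
    rw [Inn_eq_autInducedBy]
    exact isPGroup_autInducedBy hP
  have hn : (Inn P).Normal := by
    constructor
    rintro _ ⟨n, rfl⟩ a
    exact ⟨a n, by ext y; simp⟩
  refine ⟨le_sup_left, (isPGroup_subgroupOf hInn).toSylow ?_, rfl⟩
  intro hdvd
  have h1 : ((Inn P).subgroupOf (Inn P ⊔ Subgroup.zpowers β)).index = (Inn P).relIndex (Subgroup.zpowers β) := by
    show (Inn P).relIndex _ = _
    rw [sup_comm, Subgroup.relIndex_sup_right]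
  rw [h1] at hdvd
  have h2 : (Inn P).relIndex (Subgroup.zpowers β) ∣ q := by
    rw [← hβ, ← Nat.card_zpowers]
    exact Subgroup.relIndex_dvd_card _ _
  have h3 := (Nat.prime_dvd_prime_iff_eq (Fact.out : p.Prime) hq).1 (hdvd.trans h2)
  exact hqp h3.symm

end Cfsg.Agent.Lib.Helper26
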