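import Cfsg.Agent.Lib.Helper26.FusOmega
import Cfsg.Agent.Lib.Helper26.GrpMeta
import Cfsg.Agent.Lib.Helper26.GrpInvert
import Cfsg.Agent.Lib.Helper26.FusSub
import Cfsg.Agent.Lib.Helper26.FusChain

set_option autoImplicit false

/-! Strongly closed metacyclic subgroups are normal (odd `p`). -/

namespace Cfsg.Agent.Lib.Helper26

open Cfsg Cfsg.FusionSystem
open scoped commutatorElement

variable {Ω : Type*} [Group Ω] {S : Subgroup Ω} {F : FusionSystem S} {P Q R V : Subgroup Ω} {p : ℕ}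

/-- no `F`-automorphism of `V = Ω₁(P)` inverts `V` unless `P` centralizes `V` -/
theorem le_centralizer_of_inverting [Finite S] [hpp : Fact p.Prime] (hp : p ≠ 2) (hS : IsPGroup p S)
    (hF : F.IsSaturated p) (hP : F.StronglyClosed P) (hVsc : F.StronglyClosed V)
    (hV : ∀ x, x ∈ V ↔ x ∈ P ∧ x ^ p = 1) {f : Ω → Ω} (hf : Map F V f) (hfv : ∀ v ∈ V, f v = v⁻¹) :
    P ≤ Subgroup.centralizer (V : Set Ω) := by
  have hPS := hP.1
  have hVS := hVsc.1
  have hfinP : Finite P := finite_of_le hPS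
  have hVw := StronglyClosed.weaklyClosed hVsc
  have hrec : F.IsReceptive V :=
    sat_rec_of_fc hS hF (sat_fc_of_fn hS hF (WeaklyClosed.isFullyNormalized hVw))
  obtain ⟨f', hf', hf'v⟩ := (isReceptive_iff.1 hrec).2 V f hf ((weaklyClosed_iff.1 hVw).2 _ hf)
  have hN : Nf S V f = S := by
    apply le_antisymm Nf_le_S
    intro a ha
    have haN := StronglyClosed.le_normalizer hVsc ha
    refine mem_Nf_iff.2 ⟨ha, haN, a, ha, fun x hx => ?_⟩
    rw [hfv _ (conj_mem_of_normalizer haN hx), hfv x hx]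
    group
  rw [hN] at hf'
  have hinv : ∀ v ∈ V, f' v = v⁻¹ := fun v hv => by rw [hf'v v hv, hfv v hv]
  have hf'P : ∀ x ∈ P, f' x ∈ P := fun x hx =>
    (stronglyClosed_iff.1 hP).2 P le_rfl f' (hf'.restrict hPS) x hx
  by_contra hcon
  have hlt : P ⊓ Subgroup.centralizer (V : Set Ω) < P :=
    lt_of_le_of_ne inf_le_left (fun h => hcon (h ▸ inf_le_right))
  have hcard := card_lt_of_lt hlt
  have hmem : ∀ x : P, (x : Ω)⁻¹ * f' x ∈ P ⊓ Subgroup.centralizer (V : Set Ω) := by
    intro x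
    refine ⟨P.mul_mem (P.inv_mem x.2) (hf'P x x.2), ?_⟩
    show _ ∈ Subgroup.centralizer (V : Set Ω)
    rw [Subgroup.mem_centralizer_iff]
    intro v hv
    have hxS : (x : Ω) ∈ S := hPS x.2
    have h1 : (x : Ω) * v⁻¹ * (x : Ω)⁻¹ ∈ V :=
      conj_mem_of_normalizer (StronglyClosed.le_normalizer hVsc hxS) (V.inv_mem hv)
    have h2 := hf'.map_conj hxS (hVS (V.inv_mem hv))
    rw [hinv _ h1, hinv _ (V.inv_mem hv), inv_inv] at h2
    -- h2 : (x v⁻¹ x⁻¹)⁻¹ = f' x * v * (f' x)⁻¹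
    have h3 : (x : Ω) * v * (x : Ω)⁻¹ = f' x * v * (f' x)⁻¹ := by
      rw [← h2]; group
    calc v * ((x : Ω)⁻¹ * f' x) = (x : Ω)⁻¹ * ((x : Ω) * v * (x : Ω)⁻¹) * f' x := by group
      _ = (x : Ω)⁻¹ * f' x * v := by rw [h3]; group
  have hfin2 : Finite (P ⊓ Subgroup.centralizer (V : Set Ω) : Subgroup Ω) := finite_of_le (inf_le_left : _ ≤ P)
  have hninj : ¬ Function.Injective
      (fun x : P => (⟨_, hmem x⟩ : (P ⊓ Subgroup.centralizer (V : Set Ω) : Subgroup Ω))) :=
    fun h => absurd (Nat.card_le_card_of_injective _ h) (not_le.2 hcard)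
  obtain ⟨x, y, he, hxy⟩ := Function.not_injective_iff.1 hninj
  have he' : (x : Ω)⁻¹ * f' x = (y : Ω)⁻¹ * f' y := congrArg Subtype.val he
  set c : Ω := y * (x : Ω)⁻¹ with hc
  have hcP : c ∈ P := P.mul_mem y.2 (P.inv_mem x.2)
  have hc1 : c ≠ 1 := by
    intro h
    apply hxy
    apply Subtype.ext
    have : (y : Ω) = x := by
      rw [hc] at h
      exact mul_inv_eq_one.1 h
    exact this.symm
  have hfc : f' c = c := by
    rw [hc, hf'.map_mul (hPS y.2) (hPS (P.inv_mem x.2)), hf'.map_inv (hPS x.2)]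
    have : f' y = (y : Ω) * ((x : Ω)⁻¹ * f' x) := by rw [he']; group
    rw [this]; group
  -- an element of order `p`
  obtain ⟨k, hk⟩ := (hS.to_le hPS) ⟨c, hcP⟩
  have hk' : c ^ p ^ k = 1 := by simpa using congrArg Subtype.val hk
  obtain ⟨j, -, hj⟩ := (Nat.dvd_prime_pow hpp.out).1 (orderOf_dvd_of_pow_eq_one hk')
  have hj0 : j ≠ 0 := by
    rintro rfl
    rw [pow_zero, orderOf_eq_one_iff] at hj
    exact hc1 hj
  obtain ⟨i, rfl⟩ := Nat.exists_eq_succ_of_ne_zero hj0
  set c' := c ^ p ^ i with hc'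
  have hc'p : c' ^ p = 1 := by
    rw [hc', ← pow_mul, ← pow_succ, ← Nat.succ_eq_add_one, ← hj, pow_orderOf_eq_one]
  have hc'1 : c' ≠ 1 := by
    apply pow_ne_one_of_lt_orderOf (pow_pos hpp.out.pos i).ne'
    rw [hj]
    exact Nat.pow_lt_pow_right hpp.out.one_lt (Nat.lt_succ_self i)
  have hc'V : c' ∈ V := (hV c').2 ⟨P.pow_mem hcP _, hc'p⟩
  have h5 : f' c' = c' := by rw [hc', hf'.map_pow (hPS hcP), hfc]
  rw [hinv _ hc'V] at h5
  have h6 : c' ^ 2 = 1 := by
    rw [pow_two]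
    nth_rewrite 1 [← h5]
    exact inv_mul_cancel c'
  apply hc'1
  refine eq_one_of_pow_coprime ?_ h6 hc'p
  exact (Nat.coprime_primes Nat.prime_two hpp.out).2 (Ne.symm hp)

theorem isNormal_of_metacyclic [Finite S] [hpp : Fact p.Prime] (hp : p ≠ 2) (hS : IsPGroup p S)
    (hF : F.IsSaturated p) (hP : F.StronglyClosed P) (hm : IsMetacyclic P) : F.IsNormal P := by
  have hPS := hP.1
  have hfinP : Finite P := finite_of_le hPS
  obtain ⟨V₀, Z₀, hV₀, hcardV₀, hcardZ₀, hZV₀, hZc₀, hcomm₀, hab₀⟩ :=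
    metacyclic_omega hp (hS.to_le hPS) hm
  set V : Subgroup Ω := V₀.map P.subtype with hVdef
  set Z₁ : Subgroup Ω := Z₀.map P.subtype with hZdef
  have hVP : V ≤ P := by
    rintro _ ⟨x, -, rfl⟩
    exact x.2
  have hVS : V ≤ S := hVP.trans hPS
  have hV : ∀ x, x ∈ V ↔ x ∈ P ∧ x ^ p = 1 := by
    intro x
    constructor
    · rintro ⟨y, hy, rfl⟩
      refine ⟨y.2, ?_⟩
      have := congrArg Subtype.val ((hV₀ y).1 hy)
      simpa using this
    · rintro ⟨hx, hxp⟩
      exact ⟨⟨x, hx⟩, (hV₀ _).2 (Subtype.ext (by simpa using hxp)), rfl⟩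
  have hVab : ∀ a ∈ V, ∀ b ∈ V, a * b = b * a := by
    rintro _ ⟨a, ha, rfl⟩ _ ⟨b, hb, rfl⟩
    exact congrArg Subtype.val (hab₀ a ha b hb)
  have hVcard : Nat.card V ≤ p ^ 2 := by
    rw [hVdef, Subgroup.card_map_of_injective (Subgroup.subtype_injective P)]
    exact hcardV₀
  have hZcard : Nat.card Z₁ ≤ p := by
    rw [hZdef, Subgroup.card_map_of_injective (Subgroup.subtype_injective P)]
    exact hcardZ₀
  have hZV : Z₁ ≤ V := Subgroup.map_mono hZV₀
  have hZc : ∀ z ∈ Z₁, ∀ g ∈ P, g * z = z * g := by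
    rintro _ ⟨z, hz, rfl⟩ g hg
    exact congrArg Subtype.val (hZc₀ z hz ⟨g, hg⟩)
  have hcomm : ∀ v ∈ V, ∀ g ∈ P, v⁻¹ * (g * v * g⁻¹) ∈ Z₁ := by
    rintro _ ⟨v, hv, rfl⟩ g hg
    exact ⟨_, hcomm₀ v hv ⟨g, hg⟩, rfl⟩
  have hVsc : F.StronglyClosed V := by
    rw [stronglyClosed_iff]
    refine ⟨hVS, fun R hR f hf x hx => ?_⟩
    rw [hV]
    refine ⟨(stronglyClosed_iff.1 hP).2 R (hR.trans hVP) f hf x hx, ?_⟩
    rw [← hf.map_pow hx, ((hV x).1 (hR hx)).2, hf.map_one]
  have hVn : F.IsNormal V := isNormal_of_abelian_sc hS hF hVsc hVab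
  set Z : Subgroup Ω := V ⊓ Subgroup.centralizer (P : Set Ω) with hZ
  have hZ₁Z : Z₁ ≤ Z := by
    intro z hz
    refine ⟨hZV hz, ?_⟩
    show _ ∈ Subgroup.centralizer (P : Set Ω)
    rw [Subgroup.mem_centralizer_iff]
    exact fun g hg => hZc z hz g hg
  have hZsc : F.StronglyClosed Z := by
    rw [stronglyClosed_iff]
    refine ⟨inf_le_left.trans hVS, fun R hR f hf x hx => ?_⟩
    have hxV : x ∈ V := (hR hx).1
    have hxc : x ∈ Subgroup.centralizer (P : Set Ω) := (hR hx).2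
    have hfxV : f x ∈ V := (stronglyClosed_iff.1 hVsc).2 R (hR.trans inf_le_left) f hf x hx
    refine ⟨hfxV, ?_⟩
    show _ ∈ Subgroup.centralizer (P : Set Ω)
    by_contra hcon
    rw [Subgroup.mem_centralizer_iff] at hcon
    push Not at hcon
    obtain ⟨g, hgP, hg⟩ := hcon
    obtain ⟨α, hα, hαx⟩ := (isNormal_iff_restrict hS hF hVS).1 hVn R (hR.trans inf_le_left) f hf
    have hgN : g ∈ Subgroup.normalizer (V : Set Ω) := StronglyClosed.le_normalizer hVsc (hPS hgP)
    obtain ⟨t, ht⟩ := exists_aut_of_normalizer hgN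
    have htA : t ∈ F.autGroup V :=
      autInducedBy_le_autGroup hVS (mem_autInducedBy_iff.2 ⟨g, hPS hgP, ht⟩)
    have htc : ∀ v : V, ((t v : V) : Ω) = g * v * g⁻¹ := by
      intro v
      rw [← aev_coe, ht v v.2]
    have hfinV : Finite V := finite_of_le hVS
    obtain ⟨z, hzA, hz⟩ := exists_inverting (p := p) (V := V)
      (fun a b => Subtype.ext (hVab a a.2 b b.2))
      (fun v => Subtype.ext (by simpa using ((hV v).1 v.2).2)) hVcard (Z₁.subgroupOf V)
      (by rw [Nat.card_congr (Subgroup.subgroupOfEquivOfLe hZV).toEquiv]; exact hZcard)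
      (F.autGroup V) htA hα
      (by
        intro z hz
        apply Subtype.ext
        rw [htc, hZc _ (Subgroup.mem_subgroupOf.1 hz) g hgP, mul_inv_cancel_right])
      (by
        intro v
        rw [Subgroup.mem_subgroupOf]
        have := hcomm v v.2 g hgP
        rw [← htc] at this
        exact this)
      (e := ⟨x, hxV⟩)
      (by
        apply Subtype.ext
        rw [htc]
        show g * x * g⁻¹ = x
        rw [(Subgroup.mem_centralizer_iff.1 hxc) g hgP, mul_inv_cancel_right])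
      (by
        intro h
        have h1 := congrArg Subtype.val h
        rw [htc, ← aev_coe] at h1
        have h2 : aev α ((⟨x, hxV⟩ : V) : Ω) = f x := hαx x hx
        rw [h2] at h1
        apply hg
        calc g * f x = g * f x * g⁻¹ * g := by group
          _ = f x * g := by rw [h1])
    have hzm : Map F V (aev z) := (mem_autGroup_iff hVS).1 hzA
    have hzv : ∀ v ∈ V, aev z v = v⁻¹ := by
      intro v hv
      rw [aev_mem z hv, hz]
      rfl
    have hle := le_centralizer_of_inverting hp hS hF hP hVsc hV hzm hzv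
    exact hg ((Subgroup.mem_centralizer_iff.1 (hle hgP)) (f x) hfxV).symm
  refine isNormal_of_omegaChain hp hS hF hP 2 (fun i => if i = 0 then ⊥ else if i = 1 then Z else V)
    (by simp) ?_ ?_ ?_
  · intro x hx hxp
    simp only [OfNat.ofNat_ne_zero, OfNat.ofNat_ne_one, if_false]
    exact (hV x).2 ⟨hx, hxp⟩
  · intro i hi
    rcases (by omega : i = 0 ∨ i = 1) with rfl | rfl
    · simp only [zero_add, one_ne_zero, if_false, if_true]
      rw [Subgroup.commutator_le]
      intro z hz g hg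
      rw [Subgroup.mem_bot, commutatorElement_def]
      have h1 : z ∈ Subgroup.centralizer (P : Set Ω) := hz.2
      rw [← (Subgroup.mem_centralizer_iff.1 h1) g hg]
      group
    · simp only [one_ne_zero, if_false, if_true, Nat.reduceAdd, OfNat.ofNat_ne_zero, OfNat.ofNat_ne_one]
      rw [Subgroup.commutator_le]
      intro v hv g hg
      apply hZ₁Z
      have := hcomm v⁻¹ (V.inv_mem hv) g hg
      rw [inv_inv] at this
      rw [commutatorElement_def]
      have e : v * g * v⁻¹ * g⁻¹ = v * (g * v⁻¹ * g⁻¹) := by group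
      rw [e]
      exact this
  · intro i
    by_cases h0 : i = 0
    · simp only [h0, if_true]
      exact stronglyClosed_bot
    · by_cases h1 : i = 1
      · simp only [h1, one_ne_zero, if_false, if_true]
        exact hZsc
      · simp only [h0, h1, if_false]
        exact hVsc

end Cfsg.Agent.Lib.Helper26
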