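import Cfsg.Agent.Lib.Helper26.GrpOmega
import Cfsg.Agent.Lib.Helper26.FusNormal3
import Cfsg.Agent.Lib.Helper26.FusSolv

set_option autoImplicit false

/-! Normality of strongly closed subgroups via chains in `Ω₁` (odd `p`). -/

namespace Cfsg.Agent.Lib.Helper26

open Cfsg Cfsg.FusionSystem
open scoped commutatorElement

variable {Ω : Type*} [Group Ω] {S : Subgroup Ω} {F : FusionSystem S} {P Q R : Subgroup Ω} {p : ℕ}

theorem StronglyClosed.aev_mem_iff (hQ : F.StronglyClosed Q) (hPS : P ≤ S) {α : MulAut P}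
    (hα : α ∈ F.autGroup P) (x : P) : (x : Ω) ∈ Q ↔ ((α x : P) : Ω) ∈ Q := by
  constructor
  · intro hx
    have := StronglyClosed.aev_mem hQ hPS hα x.2 hx
    rwa [aev_coe] at this
  · intro hx
    have := StronglyClosed.aev_mem hQ hPS (Subgroup.inv_mem _ hα) (α x).2 hx
    rw [aev_coe] at this
    simpa using this

theorem isNormal_of_omegaChain [Finite S] [Fact p.Prime] (hp : p ≠ 2) (hS : IsPGroup p S)
    (hF : F.IsSaturated p) (hP : F.StronglyClosed P) (n : ℕ) (C : ℕ → Subgroup Ω) (h0 : C 0 = ⊥)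
    (hn : ∀ x ∈ P, x ^ p = 1 → x ∈ C n) (hcomm : ∀ i < n, ⁅C (i + 1), P⁆ ≤ C i)
    (hsc : ∀ i, F.StronglyClosed (C i)) : F.IsNormal P := by
  apply isNormal_of_sc_of_le hS hF hP
  intro R hRc hRr
  have hRS := hRc.1
  have hcR := hRc.2 R (isConj_refl hRS)
  have hfinR : Finite R := finite_of_le hRS
  apply le_of_normalizer_inf_le hS hRS hP.1 (hRS.trans (StronglyClosed.le_normalizer hP))
  intro a haP haN
  have haS : a ∈ S := hP.1 haP
  obtain ⟨γ, hγ⟩ := exists_aut_of_normalizer haN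
  have hγA : γ ∈ F.autGroup R := autInducedBy_le_autGroup hRS (mem_autInducedBy_iff.2 ⟨a, haS, hγ⟩)
  refine mem_of_conj_mem_Inn hcR haS hRS hγ ?_
  rw [← hRr.2]
  have hγx : ∀ x : R, ((x⁻¹ * γ x : R) : Ω) = (x : Ω)⁻¹ * (a * x * a⁻¹) := by
    intro x
    rw [← hγ x x.2, aev_coe]
    rfl
  have hA : ∀ γ' ∈ F.autGroup R, ∀ j (x : R), x ∈ (C j).subgroupOf R ↔ γ' x ∈ (C j).subgroupOf R := by
    intro γ' hγ' j x
    rw [Subgroup.mem_subgroupOf, Subgroup.mem_subgroupOf]
    exact StronglyClosed.aev_mem_iff (hsc j) hRS hγ' x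
  refine mem_pCore_of_omegaStab hp (hS.to_le hRS) (D := fun j => (C j).subgroupOf R) (m := n) ?_
    (P.subgroupOf R) ?_ (F.autGroup R) hA ?_ hγA ⟨hA γ hγA, ?_⟩ ?_
  · simp [h0]
  · intro x hx hxp
    rw [Subgroup.mem_subgroupOf] at hx ⊢
    apply hn _ hx
    have := congrArg Subtype.val hxp
    simpa using this
  · intro γ' hγ' x
    rw [Subgroup.mem_subgroupOf, Subgroup.mem_subgroupOf]
    exact StronglyClosed.aev_mem_iff hP hRS hγ' x
  · intro j hj x hx
    rw [Subgroup.mem_subgroupOf] at hx ⊢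
    rw [hγx]
    have h1 : ⁅(x : Ω)⁻¹, a⁆ ∈ C j :=
      hcomm j hj (Subgroup.commutator_mem_commutator ((C (j + 1)).inv_mem hx) haP)
    have h2 : ⁅(x : Ω)⁻¹, a⁆ = (x : Ω)⁻¹ * (a * x * a⁻¹) := by
      rw [commutatorElement_def]; group
    rwa [h2] at h1
  · intro x
    rw [Subgroup.mem_subgroupOf, hγx]
    have h1 : (x : Ω)⁻¹ * a * (x : Ω)⁻¹⁻¹ ∈ P := StronglyClosed.conj_mem hP (S.inv_mem (hRS x.2)) haP
    have h2 : (x : Ω)⁻¹ * (a * x * a⁻¹) = ((x : Ω)⁻¹ * a * (x : Ω)⁻¹⁻¹) * a⁻¹ := by group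
    rw [h2]
    exact P.mul_mem h1 (P.inv_mem haP)

theorem omegaOne_le' (p : ℕ) (P : Subgroup Ω) : omegaOne p P ≤ P := by
  unfold omegaOne
  rw [Subgroup.closure_le]
  exact fun x hx => hx.1

theorem mem_omegaOne' {x : Ω} (hx : x ∈ P) (hxp : x ^ p = 1) : x ∈ omegaOne p P :=
  Subgroup.subset_closure ⟨hx, hxp⟩

theorem omegaOne_characteristic (p : ℕ) (P : Subgroup Ω) : ((omegaOne p P).subgroupOf P).Characteristic := by
  have e : (omegaOne p P).subgroupOf P = Subgroup.closure {x : P | x ^ p = 1} := by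
    have h1 : omegaOne p P = (Subgroup.closure {x : P | x ^ p = 1}).map P.subtype := by
      rw [MonoidHom.map_closure]
      unfold omegaOne
      congr 1
      ext x
      constructor
      · rintro ⟨hx, hxp⟩
        exact ⟨⟨x, hx⟩, Subtype.ext (by simpa using hxp), rfl⟩
      · rintro ⟨y, hy, rfl⟩
        refine ⟨y.2, ?_⟩
        have := congrArg Subtype.val hy
        simpa using this
    rw [h1]
    exact Subgroup.comap_map_eq_self_of_injective (Subgroup.subtype_injective _) _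
  rw [e, Subgroup.characteristic_iff_map_le]
  intro φ
  rw [MonoidHom.map_closure]
  apply Subgroup.closure_mono
  rintro _ ⟨x, hx, rfl⟩
  show (φ x) ^ p = 1
  rw [← map_pow, hx, map_one]

theorem omegaOne_comm_le (p : ℕ) (P : Subgroup Ω) : ⁅omegaOne p P, P⁆ ≤ omegaOne p P := by
  have hN : P ≤ Subgroup.normalizer (omegaOne p P : Set Ω) := by
    intro a ha
    have key : ∀ b ∈ P, ∀ y ∈ omegaOne p P, b * y * b⁻¹ ∈ omegaOne p P := by
      intro b hb y hy
      unfold omegaOne at hy ⊢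
      induction hy using Subgroup.closure_induction with
      | mem y hy =>
        apply Subgroup.subset_closure
        refine ⟨P.mul_mem (P.mul_mem hb hy.1) (P.inv_mem hb), ?_⟩
        rw [conj_pow, hy.2]; group
      | one => simp
      | mul y z _ _ hy hz =>
        have : b * (y * z) * b⁻¹ = (b * y * b⁻¹) * (b * z * b⁻¹) := by group
        rw [this]; exact Subgroup.mul_mem _ hy hz
      | inv y _ hy =>
        have : b * y⁻¹ * b⁻¹ = (b * y * b⁻¹)⁻¹ := by group
        rw [this]; exact Subgroup.inv_mem _ hy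
    apply mem_normalizer_of_conj (key a ha)
    intro y hy
    have := key a⁻¹ (P.inv_mem ha) y hy
    rwa [inv_inv] at this
  rw [Subgroup.commutator_le]
  intro x hx a ha
  rw [commutatorElement_def]
  have h1 : a * x⁻¹ * a⁻¹ ∈ omegaOne p P :=
    conj_mem_of_normalizer (hN ha) (Subgroup.inv_mem _ hx)
  have h2 : x * a * x⁻¹ * a⁻¹ = x * (a * x⁻¹ * a⁻¹) := by group
  rw [h2]
  exact Subgroup.mul_mem _ hx h1

end Cfsg.Agent.Lib.Helper26
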