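import Cfsg.Agent.Lib.Helper26.FusPSol
import Cfsg.Agent.Lib.Helper26.FusGroupNormal

set_option autoImplicit false

/-! Normal subgroups of a realizing group give normal subsystems. -/

namespace Cfsg.Agent.Lib.Helper26

open Cfsg Cfsg.FusionSystem

universe u

variable {Ω : Type*} [Group Ω] {S T : Subgroup Ω} {F : FusionSystem S} {p : ℕ}
variable {G : Type*} [Group G] {ι : S →* G} {H : Subgroup G}

/-- the maps induced by conjugation with elements of `H` -/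
def HC (ι : S →* G) (H : Subgroup G) (T V : Subgroup Ω) (f : Ω → Ω) : Prop :=
  V ≤ T ∧ (∀ x ∈ V, f x ∈ T) ∧ ∃ h ∈ H, ∀ x ∈ V, tv ι (f x) = h * tv ι x * h⁻¹

theorem exists_HC_sys (hι : Function.Injective ι) (hTS : T ≤ S) (hT : ∀ x ∈ T, tv ι x ∈ H) :
    ∃ E : FusionSystem T, ∀ V f, Map E V f ↔ HC ι H T V f := by
  have hmul : ∀ {P : Subgroup Ω} {f : Ω → Ω}, HC ι H T P f → ∀ x ∈ P, ∀ y ∈ P, f (x * y) = f x * f y := by
    rintro P f ⟨h1, h2, h, hh, h3⟩ x hx y hy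
    apply tv_inj hι (hTS (h2 _ (P.mul_mem hx hy))) (S.mul_mem (hTS (h2 x hx)) (hTS (h2 y hy)))
    rw [h3 _ (P.mul_mem hx hy), tv_mul ι (hTS (h2 x hx)) (hTS (h2 y hy)), h3 x hx, h3 y hy,
      tv_mul ι (hTS (h1 hx)) (hTS (h1 hy))]
    group
  have hinj : ∀ {P : Subgroup Ω} {f : Ω → Ω}, HC ι H T P f → Set.InjOn f (P : Set Ω) := by
    rintro P f ⟨h1, h2, h, hh, h3⟩ x hx y hy hxy
    apply tv_inj hι (hTS (h1 hx)) (hTS (h1 hy))
    have := congrArg (tv ι) hxy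
    rw [h3 x hx, h3 y hy] at this
    simpa using this
  refine exists_sys T (HC ι H T) ?_ hmul ?_ ?_ hinj ?_ ?_ ?_
  · rintro P f g ⟨h1, h2, h, hh, h3⟩ hfg
    exact ⟨h1, fun x hx => hfg x hx ▸ h2 x hx, h, hh, fun x hx => hfg x hx ▸ h3 x hx⟩
  · rintro P f h; exact h.1
  · rintro P f h; exact h.2.1
  · intro P a hP ha
    refine ⟨hP, fun x hx => T.mul_mem (T.mul_mem ha (hP hx)) (T.inv_mem ha), tv ι a, hT a ha, fun x hx => ?_⟩
    exact tv_conj ι (hTS ha) (hTS (hP hx))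
  · rintro P Q f g ⟨h1, h2, h, hh, h3⟩ ⟨k1, k2, k, hk, k3⟩ hPQ
    refine ⟨h1, fun x hx => k2 _ (hPQ x hx), k * h, H.mul_mem hk hh, fun x hx => ?_⟩
    rw [Function.comp_apply, k3 _ (hPQ x hx), h3 x hx]
    group
  · intro P f hf
    have hi := hinj hf
    have hm := hmul hf
    obtain ⟨h1, h2, h, hh, h3⟩ := hf
    refine ⟨im_le_iff.2 h2, ?_, h⁻¹, H.inv_mem hh, ?_⟩
    · intro y hy
      obtain ⟨x, hx, rfl⟩ := (mem_im' hm).1 hy
      rw [inv_apply' hi hx]; exact h1 hx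
    · intro y hy
      obtain ⟨x, hx, rfl⟩ := (mem_im' hm).1 hy
      rw [inv_apply' hi hx, h3 x hx]
      group

theorem HC_real [Finite G] [Fact p.Prime] (hι : Function.Injective ι) (hTS : T ≤ S)
    (hT : ∀ x, x ∈ T ↔ x ∈ S ∧ tv ι x ∈ H) (E : FusionSystem T) (hE : ∀ V f, Map E V f ↔ HC ι H T V f)
    (TS : Sylow p G) (hTSr : (TS : Subgroup G) = ι.range) [H.Normal] :
    ∃ ιT : T →* H, E.IsRealizedBy ιT ∧ ∃ R : Sylow p H, (R : Subgroup H) = ιT.range := by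
  let ιT : T →* H := (ι.comp (Subgroup.inclusion hTS)).codRestrict H (fun x => by
    have := ((hT x).1 x.2).2
    rwa [tv_mem ι (hTS x.2)] at this)
  have htv : ∀ x ∈ T, ((tv ιT x : H) : G) = tv ι x := by
    intro x hx; rw [tv_mem ιT hx, tv_mem ι (hTS hx)]; rfl
  have hinj : Function.Injective ιT := by
    intro x y hxy
    have h1 : ι (Subgroup.inclusion hTS x) = ι (Subgroup.inclusion hTS y) := congrArg Subtype.val hxy
    exact Subgroup.inclusion_injective hTS (hι h1)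
  refine ⟨ιT, ?_, ?_⟩
  · apply isRealizedBy_of_map_iff hinj
    intro V f
    rw [hE]
    constructor
    · rintro ⟨h1, h2, h, hh, h3⟩
      refine ⟨h1, h2, ⟨h, hh⟩, fun x hx => Subtype.ext ?_⟩
      rw [htv _ (h2 x hx), h3 x hx]
      simp [htv x (h1 hx)]
    · rintro ⟨h1, h2, h, h3⟩
      refine ⟨h1, h2, h, h.2, fun x hx => ?_⟩
      rw [← htv _ (h2 x hx), h3 x hx]
      simp [htv x (h1 hx)]
  · obtain ⟨-, R, hR⟩ := (Sylow.isSylowIn_top TS).inf_normal (N := H) le_top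
      (by rw [Subgroup.normalizer_eq_top])
    refine ⟨R, ?_⟩
    rw [hR]
    ext y
    rw [Subgroup.mem_subgroupOf]
    constructor
    · rintro ⟨h1, -⟩
      rw [hTSr] at h1
      obtain ⟨s, hs⟩ := h1
      have hsT : (s : Ω) ∈ T := (hT s).2 ⟨s.2, by rw [tv_coe, hs]; exact y.2⟩
      exact ⟨⟨s, hsT⟩, Subtype.ext hs⟩
    · rintro ⟨x, rfl⟩
      refine ⟨?_, (ιT x).2⟩
      rw [hTSr]
      exact ⟨Subgroup.inclusion hTS x, rfl⟩

/-- conjugation by `g`, pulled back along `ι` -/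
noncomputable def cjI (hι : Function.Injective ι) (g : G) : Ω → Ω :=
  fun x => tv (invHom hι) (g * tv ι x * g⁻¹)

theorem cjI_mem (hι : Function.Injective ι) {g : G} {x : Ω} (h : g * tv ι x * g⁻¹ ∈ ι.range) :
    cjI hι g x ∈ S := tv_invHom_mem hι h

theorem tv_cjI (hι : Function.Injective ι) {g : G} {x : Ω} (h : g * tv ι x * g⁻¹ ∈ ι.range) :
    tv ι (cjI hι g x) = g * tv ι x * g⁻¹ := tv_tv_invHom hι h

theorem HC_isNormalIn [Finite G] [Finite S] [Fact p.Prime] (hreal : F.IsRealizedBy ι) (hTS : T ≤ S)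
    (hT : ∀ x, x ∈ T ↔ x ∈ S ∧ tv ι x ∈ H) (E : FusionSystem T) (hE : ∀ V f, Map E V f ↔ HC ι H T V f)
    (TS : Sylow p G) (hTSr : (TS : Subgroup G) = ι.range) [hH : H.Normal] : E.IsNormalIn F p := by
  have hι := hreal.1
  have hF : ∀ V f, Map F V f ↔ V ≤ S ∧ (∀ x ∈ V, f x ∈ S) ∧
      ∃ g : G, ∀ x ∈ V, tv ι (f x) = g * tv ι x * g⁻¹ :=
    fun V f => IsRealizedBy.map_iff hreal
  obtain ⟨ιT, hrealT, hsylT⟩ := HC_real hι hTS hT E hE TS hTSr
  have hEsat : E.IsSaturated p := IsRealizedBy.isSaturated hrealT hsylT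
  have hFsat : F.IsSaturated p := IsRealizedBy.isSaturated hreal ⟨TS, hTSr⟩
  have hrange : ∀ x ∈ S, tv ι x ∈ ι.range := fun x hx => by rw [tv_mem ι hx]; exact ⟨_, rfl⟩
  have hconjH : ∀ (g x : G), x ∈ H → g * x * g⁻¹ ∈ H := fun g x hx => hH.conj_mem x hx g
  have hTG : ∀ y, y ∈ (TS : Subgroup G) ⊓ H ↔ ∃ x ∈ T, tv ι x = y := by
    intro y
    constructor
    · rintro ⟨h1, h2⟩
      have h1' : y ∈ (TS : Subgroup G) := h1
      rw [hTSr] at h1'
      obtain ⟨s, rfl⟩ := h1'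
      exact ⟨s, (hT s).2 ⟨s.2, by rw [tv_coe]; exact h2⟩, tv_coe ι s⟩
    · rintro ⟨x, hx, rfl⟩
      refine ⟨?_, ((hT x).1 hx).2⟩
      show tv ι x ∈ (TS : Subgroup G)
      rw [hTSr]; exact hrange x (hTS hx)
  have hGN := group_normal_subsystem TS H
  rw [isNormalIn_iff, isInvariantIn_iff] at hGN
  obtain ⟨-, -, ⟨-, -, -, hd⟩, h4⟩ := hGN
  have hfinT : Finite T := finite_of_le hTS
  have hmk : ∀ (U : Subgroup Ω), U ≤ S → ∀ m : G, (∀ x ∈ U, ∃ u ∈ U, tv ι u = m * tv ι x * m⁻¹) →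
      ∃ β ∈ F.autGroup U, ∀ x ∈ U, tv ι (aev β x) = m * tv ι x * m⁻¹ := by
    intro U hU m hm
    have hr : ∀ x ∈ U, m * tv ι x * m⁻¹ ∈ ι.range := by
      intro x hx
      obtain ⟨u, hu, e⟩ := hm x hx
      rw [← e]; exact hrange u (hU hu)
    have hmap : Map F U (cjI hι m) :=
      (hF _ _).2 ⟨hU, fun x hx => cjI_mem hι (hr x hx), m, fun x hx => tv_cjI hι (hr x hx)⟩
    have hle : im (cjI hι m) U ≤ U := by
      rw [im_le_iff]
      intro x hx
      obtain ⟨u, hu, e⟩ := hm x hx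
      have : cjI hι m x = u :=
        tv_inj hι (cjI_mem hι (hr x hx)) (hU hu) (by rw [tv_cjI hι (hr x hx), e])
      rw [this]; exact hu
    have : Finite U := finite_of_le hU
    obtain ⟨β, hβ, hβ2⟩ := hmap.exists_aut (Subgroup.eq_of_le_of_card_ge hle hmap.card_im.ge)
    exact ⟨β, hβ, fun x hx => by rw [hβ2 x hx, tv_cjI hι (hr x hx)]⟩
  rw [isNormalIn_iff, isInvariantIn_iff]
  refine ⟨hEsat, hFsat, ⟨?_, ?_, ?_, ?_⟩, ?_⟩
  · intro V f hf
    obtain ⟨h1, h2, h, -, h3⟩ := (hE _ _).1 hf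
    exact (hF _ _).2 ⟨h1.trans hTS, fun x hx => hTS (h2 x hx), h, h3⟩
  · rw [stronglyClosed_iff]
    refine ⟨hTS, fun R hR f hf x hx => ?_⟩
    obtain ⟨h1, h2, g, h3⟩ := (hF _ _).1 hf
    rw [hT]
    refine ⟨h2 x hx, ?_⟩
    rw [h3 x hx]
    exact hconjH g _ ((hT x).1 (hR hx)).2
  · intro V f hf α hα
    obtain ⟨h1, h2, h, hh, h3⟩ := (hE _ _).1 hf
    obtain ⟨-, -, n, hn⟩ := (hF _ _).1 ((mem_autGroup_iff hTS).1 hα)
    have hαV := ((mem_autGroup_iff hTS).1 hα).restrict h1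
    refine ⟨fun y => aev α (f (aev α⁻¹ y)), (hE _ _).2 ⟨im_le_iff.2 (fun x hx => aev_mem_self α (h1 hx)),
      ?_, n * h * n⁻¹, hconjH n h hh, ?_⟩, ?_⟩
    · intro y hy
      obtain ⟨x, hx, rfl⟩ := (mem_im hαV).1 hy
      show aev α (f (aev α⁻¹ (aev α x))) ∈ T
      rw [aev_inv_apply α (h1 hx)]
      exact aev_mem_self α (h2 x hx)
    · intro y hy
      obtain ⟨x, hx, rfl⟩ := (mem_im hαV).1 hy
      show tv ι (aev α (f (aev α⁻¹ (aev α x)))) = _
      rw [aev_inv_apply α (h1 hx), hn _ (h2 x hx), h3 x hx, hn x (h1 hx)]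
      group
    · intro x hx
      show aev α (f (aev α⁻¹ (aev α x))) = _
      rw [aev_inv_apply α (h1 hx)]
  · intro V hV f hf
    obtain ⟨h1, h2, g, h3⟩ := (hF _ _).1 hf
    have hP : imageAlong ι V ≤ (TS : Subgroup G) ⊓ H := by
      intro y hy
      obtain ⟨x, hx, -, rfl⟩ := mem_imageAlong.1 hy
      exact (hTG _).2 ⟨x, hV hx, rfl⟩
    have hmapG : Map (groupFusionSystem (TS : Subgroup G)) (imageAlong ι V) (cj g) := by
      rw [map_group_iff]
      refine ⟨hP.trans inf_le_left, g, fun y hy => ⟨rfl, ?_⟩⟩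
      obtain ⟨x, hx, -, rfl⟩ := mem_imageAlong.1 hy
      rw [← h3 x hx, hTSr]; exact hrange _ (h2 x hx)
    obtain ⟨αG, hαG, f₀, hf₀, hfac⟩ := hd _ hP _ hmapG
    obtain ⟨-, n, hn⟩ := map_group_iff.1 ((mem_autGroup_iff inf_le_left).1 hαG)
    obtain ⟨-, h, hh, hf₀2⟩ := map_sub_iff.1 hf₀
    obtain ⟨α, hα, hα2⟩ := hmk T hTS n (by
      intro x hx
      have h5 := aev_mem_self αG ((hTG _).2 ⟨x, hx, rfl⟩)
      rw [(hn _ ((hTG _).2 ⟨x, hx, rfl⟩)).1] at h5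
      exact (hTG _).1 h5)
    have hr : ∀ x ∈ V, ∃ u ∈ T, tv ι u = h * tv ι x * h⁻¹ := by
      intro x hx
      exact (hTG _).1 (hf₀2 _ (tv_mem_imageAlong hx (h1 hx))).2
    have hr' : ∀ x ∈ V, h * tv ι x * h⁻¹ ∈ ι.range := by
      intro x hx
      obtain ⟨u, hu, e⟩ := hr x hx
      rw [← e]; exact hrange u (hTS hu)
    have hcT : ∀ x ∈ V, cjI hι h x ∈ T := by
      intro x hx
      rw [hT]
      refine ⟨cjI_mem hι (hr' x hx), ?_⟩
      rw [tv_cjI hι (hr' x hx)]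
      exact hconjH h _ ((hT x).1 (hV hx)).2
    refine ⟨α, hα, cjI hι h, (hE _ _).2 ⟨hV, hcT, h, hh, fun x hx => tv_cjI hι (hr' x hx)⟩,
      fun x hx => ?_⟩
    apply tv_inj hι (h2 x hx) (hTS (aev_mem_self α (hcT x hx)))
    rw [hα2 _ (hcT x hx), tv_cjI hι (hr' x hx), h3 x hx]
    have h6 := hfac _ (tv_mem_imageAlong hx (h1 hx))
    rw [cj_apply, (hf₀2 _ (tv_mem_imageAlong hx (h1 hx))).1,
      (hn _ (hf₀2 _ (tv_mem_imageAlong hx (h1 hx))).2).1] at h6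
    exact h6
  · intro α hα
    obtain ⟨-, h2, h, hh, h3⟩ := (hE _ _).1 ((mem_autGroup_iff le_rfl).1 hα)
    have hhN : h ∈ Subgroup.normalizer (((TS : Subgroup G) ⊓ H : Subgroup G) : Set G) := by
      apply mem_normalizer_of_conj_finite
      intro y hy
      obtain ⟨x, hx, rfl⟩ := (hTG _).1 hy
      rw [← h3 x hx]
      exact (hTG _).2 ⟨_, h2 x hx, rfl⟩
    obtain ⟨αG, hαG⟩ := exists_aut_of_normalizer hhN
    have hαGE : αG ∈ (fusionSystemOfSubgroup H ((TS : Subgroup G) ⊓ H) inf_le_right).autGroup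
        ((TS : Subgroup G) ⊓ H) := by
      rw [mem_autGroup_iff le_rfl, map_sub_iff]
      exact ⟨le_rfl, h, hh, fun x hx => ⟨hαG x hx, conj_mem_of_normalizer hhN hx⟩⟩
    obtain ⟨βG, hβG, hβ1, hβ2⟩ := h4 αG hαGE
    have hUGle : ((TS : Subgroup G) ⊓ H) ⊔ centralizerIn (TS : Subgroup G) ((TS : Subgroup G) ⊓ H) ≤
        (TS : Subgroup G) := sup_le inf_le_left centralizerIn_le
    obtain ⟨-, m, hm⟩ := map_group_iff.1 ((mem_autGroup_iff hUGle).1 hβG)
    have hC1 : ∀ c ∈ centralizerIn S T,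
        tv ι c ∈ centralizerIn (TS : Subgroup G) ((TS : Subgroup G) ⊓ H) := by
      intro c hc
      obtain ⟨hcS, hcC⟩ := mem_centralizerIn.1 hc
      refine mem_centralizerIn.2 ⟨by rw [hTSr]; exact hrange c hcS, ?_⟩
      intro y hy
      obtain ⟨x, hx, rfl⟩ := (hTG _).1 hy
      rw [← tv_mul ι (hTS hx) hcS, ← tv_mul ι hcS (hTS hx), hcC x hx]
    have hU1 : ∀ x ∈ T ⊔ centralizerIn S T, tv ι x ∈
        ((TS : Subgroup G) ⊓ H) ⊔ centralizerIn (TS : Subgroup G) ((TS : Subgroup G) ⊓ H) := by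
      have : T ⊔ centralizerIn S T ≤ preimageAlong ι
          (((TS : Subgroup G) ⊓ H) ⊔ centralizerIn (TS : Subgroup G) ((TS : Subgroup G) ⊓ H)) := by
        refine sup_le ?_ ?_
        · intro x hx
          exact mem_preimageAlong.2 ⟨hTS hx, Subgroup.mem_sup_left ((hTG _).2 ⟨x, hx, rfl⟩)⟩
        · intro c hc
          exact mem_preimageAlong.2 ⟨centralizerIn_le hc, Subgroup.mem_sup_right (hC1 c hc)⟩
      intro x hx
      exact (mem_preimageAlong.1 (this hx)).2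
    have hU2 : ∀ y ∈ ((TS : Subgroup G) ⊓ H) ⊔ centralizerIn (TS : Subgroup G) ((TS : Subgroup G) ⊓ H),
        ∃ u ∈ T ⊔ centralizerIn S T, tv ι u = y := by
      have : ((TS : Subgroup G) ⊓ H) ⊔ centralizerIn (TS : Subgroup G) ((TS : Subgroup G) ⊓ H) ≤
          imageAlong ι (T ⊔ centralizerIn S T) := by
        refine sup_le ?_ ?_
        · intro y hy
          obtain ⟨x, hx, rfl⟩ := (hTG _).1 hy
          exact tv_mem_imageAlong (Subgroup.mem_sup_left hx) (hTS hx)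
        · intro c hc
          obtain ⟨hcS, hcC⟩ := mem_centralizerIn.1 hc
          rw [hTSr] at hcS
          obtain ⟨s, rfl⟩ := hcS
          rw [← tv_coe ι s]
          refine tv_mem_imageAlong (Subgroup.mem_sup_right
            (mem_centralizerIn.2 ⟨s.2, fun x hx => ?_⟩)) s.2
          apply tv_inj hι (S.mul_mem (hTS hx) s.2) (S.mul_mem s.2 (hTS hx))
          rw [tv_mul ι (hTS hx) s.2, tv_mul ι s.2 (hTS hx), tv_coe]
          exact hcC _ ((hTG _).2 ⟨x, hx, rfl⟩)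
      intro y hy
      obtain ⟨u, hu, -, e⟩ := mem_imageAlong.1 (this hy)
      exact ⟨u, hu, e⟩
    have hUS : T ⊔ centralizerIn S T ≤ S := sup_le hTS centralizerIn_le
    obtain ⟨β, hβ, hβ3⟩ := hmk _ hUS m (by
      intro x hx
      have h5 := aev_mem_self βG (hU1 x hx)
      rw [(hm _ (hU1 x hx)).1] at h5
      exact hU2 _ h5)
    refine ⟨β, hβ, fun x hx => ?_, fun c hc => ?_⟩
    · have hxU : x ∈ T ⊔ centralizerIn S T := Subgroup.mem_sup_left hx
      apply tv_inj hι (hUS (aev_mem_self β hxU)) (hTS (aev_mem_self α hx))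
      rw [hβ3 x hxU, ← (hm _ (hU1 x hxU)).1, hβ1 _ ((hTG _).2 ⟨x, hx, rfl⟩),
        hαG _ ((hTG _).2 ⟨x, hx, rfl⟩), h3 x hx]
    · have hcU : c ∈ T ⊔ centralizerIn S T := Subgroup.mem_sup_right hc
      have hcS : c ∈ S := centralizerIn_le hc
      have h5 := hβ2 _ (hC1 c hc)
      rw [(hm _ (hU1 c hcU)).1, ← hβ3 c hcU, ← tv_inv ι hcS,
        ← tv_mul ι (S.inv_mem hcS) (hUS (aev_mem_self β hcU))] at h5
      obtain ⟨h6, h7⟩ := h5
      have hzS : c⁻¹ * aev β c ∈ S := S.mul_mem (S.inv_mem hcS) (hUS (aev_mem_self β hcU))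
      refine ⟨(hT _).2 ⟨hzS, h6.2⟩, ?_⟩
      have h7' := Subgroup.mem_centralizer_iff.1 h7
      apply Subgroup.mem_centralizer_iff.2
      intro t ht
      apply tv_inj hι (S.mul_mem (hTS ht) hzS) (S.mul_mem hzS (hTS ht))
      rw [tv_mul ι (hTS ht) hzS, tv_mul ι hzS (hTS ht)]
      exact h7' _ ((hTG _).2 ⟨t, ht, rfl⟩)

theorem simple_real {Ω : Type u} [Group Ω] {S : Subgroup Ω} [Finite S] [Fact p.Prime] (F : FusionSystem S)
    (hsimple : F.IsSimple p) (hreal : F.IsRealizable p) :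
    ∃ (G : Type u) (_ : Group G) (_ : Finite G) (_ : IsSimpleGroup G) (ι : ↥S →* G),
      F.IsRealizedBy ι ∧ ∃ T : Sylow p G, (T : Subgroup G) = ι.range := by
  classical
  have hp := (Fact.out : p.Prime)
  let Pn : ℕ → Prop := fun n => ∃ (G : Type u) (_ : Group G) (_ : Finite G) (ι : S →* G),
    Nat.card G = n ∧ F.IsRealizedBy ι ∧ ∃ T : Sylow p G, (T : Subgroup G) = ι.range
  have hex : ∃ n, Pn n := by
    obtain ⟨G, iG, iF, ι, h1, h2⟩ := hreal
    exact ⟨Nat.card G, G, iG, iF, ι, rfl, h1, h2⟩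
  obtain ⟨G, iG, iF, ι, hcard, hr, TS, hTS⟩ := Nat.find_spec hex
  have hmin : ∀ (G' : Type u) [Group G'] [Finite G'] (ι' : S →* G'), F.IsRealizedBy ι' →
      (∃ T : Sylow p G', (T : Subgroup G') = ι'.range) → Nat.card G ≤ Nat.card G' := by
    intro G' iG' iF' ι' h1 h2
    rw [hcard]
    exact Nat.find_min' hex ⟨G', iG', iF', ι', rfl, h1, h2⟩
  refine ⟨G, iG, iF, ?_, ι, hr, TS, hTS⟩
  have hnt : Nontrivial G := by
    obtain ⟨a, ha⟩ := Subgroup.ne_bot_iff_exists_ne_one.1 hsimple.2.1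
    exact ⟨ι a, 1, fun h => ha (hr.1 (h.trans (map_one ι).symm))⟩
  refine { exists_pair_ne := hnt.exists_pair_ne, eq_bot_or_eq_top_of_normal := ?_ }
  intro H hH
  by_contra hcon
  obtain ⟨hHbot, hHtop⟩ := not_or.1 hcon
  obtain ⟨T, hTdef⟩ : ∃ T, T = preimageAlong ι H := ⟨_, rfl⟩
  have hT : ∀ x, x ∈ T ↔ x ∈ S ∧ tv ι x ∈ H := by intro x; rw [hTdef]; exact mem_preimageAlong
  have hTS' : T ≤ S := fun x hx => ((hT x).1 hx).1
  obtain ⟨E, hE⟩ := exists_HC_sys (H := H) hr.1 hTS' (fun x hx => ((hT x).1 hx).2)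
  have hEn := HC_isNormalIn hr hTS' hT E hE TS hTS
  obtain ⟨ιT, hrealT, hsylT⟩ := HC_real hr.1 hTS' hT E hE TS hTS
  rcases hsimple.2.2 T E hEn with h0 | ⟨h1, h2⟩
  · have hcop : (Nat.card H).Coprime p := by
      obtain ⟨R, hR⟩ := hsylT
      have hRbot : (R : Subgroup H) = ⊥ := by
        rw [hR, eq_bot_iff]
        rintro _ ⟨x, rfl⟩
        have hx1 : x = 1 := Subtype.ext (Subgroup.mem_bot.1 (h0.le x.2))
        rw [hx1, map_one]; exact Subgroup.one_mem _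
      have h3 := R.not_dvd_index
      rw [hRbot, Subgroup.index_bot] at h3
      exact ((Nat.Prime.coprime_iff_not_dvd hp).2 h3).symm
    have hq := IsRealizedBy.quot hr TS hTS H hcop
    have hsyl : ∃ T' : Sylow p (G ⧸ H),
        (T' : Subgroup (G ⧸ H)) = ((QuotientGroup.mk' H).comp ι).range :=
      ⟨TS.mapSurjective (QuotientGroup.mk'_surjective H), by
        rw [Sylow.coe_mapSurjective, hTS, MonoidHom.range_comp]⟩
    have h5 := hmin (G ⧸ H) _ hq hsyl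
    have h6 := Subgroup.card_eq_card_quotient_mul_card_subgroup H
    have h7 : 1 < Nat.card H := (Subgroup.one_lt_card_iff_ne_bot H).2 hHbot
    have h8 : 0 < Nat.card (G ⧸ H) := Nat.card_pos
    nlinarith
  · subst h1
    have hEF : E = F := fusionSystem_ext h2
    rw [hEF] at hrealT
    have h5 := hmin H ιT hrealT hsylT
    have h6 : Nat.card H < Nat.card G :=
      lt_of_le_of_ne (Subgroup.card_le_card_group H) (mt (Subgroup.card_eq_iff_eq_top H).1 hHtop)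
    omega

end Cfsg.Agent.Lib.Helper26
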